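import Mathlib
import Groth.Agent.Lib.Helper5.Misc.StdEtLift

/-!
# Lifting standard étale algebras along "fraction-surjective" ring maps (helper2)

A ring map `A → B` is fraction-surjective when every element of `B` is of the form
`φ a / φ t` with `φ t` a unit.  Standard étale `B`-algebras lift to standard étale `A`-algebras.
-/

set_option autoImplicit false
set_option backward.isDefEq.respectTransparency.types false
set_option synthInstance.maxHeartbeats 400000
set_option maxHeartbeats 4000000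
set_option linter.style.haveILetI false
set_option linter.unusedSectionVars false
set_option linter.unusedVariables false

universe u
open Polynomial TensorProduct

namespace Groth.Agent.Helper2.FibEt

/-- fraction-surjectivity of an algebra -/
def FS (A B : Type*) [CommRing A] [CommRing B] [Algebra A B] : Prop :=
  ∀ b : B, ∃ a t : A, IsUnit (algebraMap A B t) ∧ b * algebraMap A B t = algebraMap A B a

section
variable {A B : Type*} [CommRing A] [CommRing B] [Algebra A B]

theorem FS.finset (h : FS A B) (s : Finset B) :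
    ∃ t : A, IsUnit (algebraMap A B t) ∧ ∀ b ∈ s, ∃ a : A, b * algebraMap A B t = algebraMap A B a := by
  classical
  induction s using Finset.induction_on with
  | empty => exact ⟨1, by simp, by simp⟩
  | insert b s hb ih =>
    obtain ⟨t, ht, hs⟩ := ih
    obtain ⟨a', t', ht', hb'⟩ := h b
    refine ⟨t * t', by rw [map_mul]; exact ht.mul ht', ?_⟩
    intro c hc
    rcases Finset.mem_insert.1 hc with rfl | hc
    · exact ⟨a' * t, by rw [map_mul, map_mul, ← hb']; ring⟩
    · obtain ⟨a, ha⟩ := hs c hc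
      exact ⟨a * t', by rw [map_mul, map_mul, ← ha]; ring⟩

theorem FS.add_mem {b₁ b₂ : B}
    (h₁ : ∃ a t : A, IsUnit (algebraMap A B t) ∧ b₁ * algebraMap A B t = algebraMap A B a)
    (h₂ : ∃ a t : A, IsUnit (algebraMap A B t) ∧ b₂ * algebraMap A B t = algebraMap A B a) :
    ∃ a t : A, IsUnit (algebraMap A B t) ∧ (b₁ + b₂) * algebraMap A B t = algebraMap A B a := by
  obtain ⟨a₁, t₁, ht₁, e₁⟩ := h₁
  obtain ⟨a₂, t₂, ht₂, e₂⟩ := h₂
  refine ⟨a₁ * t₂ + a₂ * t₁, t₁ * t₂, by rw [map_mul]; exact ht₁.mul ht₂, ?_⟩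
  rw [map_add, map_mul, map_mul, map_mul, ← e₁, ← e₂]; ring

end

section scale
variable {B : Type*} [CommRing B]

/-- rescaling the variable of a polynomial by a unit, with a power of the unit in front -/
noncomputable def scal (u : Bˣ) (k : ℕ) (p : B[X]) : B[X] :=
  C ((u ^ k : Bˣ) : B) * p.comp (C ((u⁻¹ : Bˣ) : B) * X)

theorem coeff_scal (u : Bˣ) (k : ℕ) (p : B[X]) (i : ℕ) :
    (scal u k p).coeff i = ((u ^ k : Bˣ) : B) * (p.coeff i * ((u⁻¹ : Bˣ) : B) ^ i) := by
  unfold scal
  rw [coeff_C_mul, comp_C_mul_X_coeff]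

theorem coeff_scal_of_le (u : Bˣ) (k : ℕ) (p : B[X]) (i : ℕ) (hi : i ≤ k) :
    (scal u k p).coeff i = p.coeff i * ((u ^ (k - i) : Bˣ) : B) := by
  rw [coeff_scal]
  have : (u ^ (k - i) : Bˣ) = u ^ k * (u⁻¹) ^ i := by
    rw [pow_sub u hi, inv_pow]
  rw [this]
  push_cast
  ring

theorem natDegree_scal_le (u : Bˣ) (k : ℕ) (p : B[X]) : (scal u k p).natDegree ≤ p.natDegree := by
  unfold scal
  refine (natDegree_C_mul_le _ _).trans ?_
  refine natDegree_comp_le.trans ?_
  have : (C ((u⁻¹ : Bˣ) : B) * X).natDegree ≤ 1 := by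
    exact (natDegree_C_mul_le _ _).trans natDegree_X_le
  calc p.natDegree * (C ((u⁻¹ : Bˣ) : B) * X).natDegree ≤ p.natDegree * 1 :=
        Nat.mul_le_mul_left _ this
    _ = p.natDegree := mul_one _

theorem monic_scal (u : Bˣ) (p : B[X]) (hp : p.Monic) : (scal u p.natDegree p).Monic := by
  refine monic_of_natDegree_le_of_coeff_eq_one p.natDegree (natDegree_scal_le _ _ _) ?_
  rw [coeff_scal_of_le _ _ _ _ le_rfl, hp.coeff_natDegree]
  simp

variable {C' : Type*} [CommRing C'] [Algebra B C']

theorem aeval_scal (u : Bˣ) (k : ℕ) (p : B[X]) (y : C') :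
    aeval y (scal u k p) =
      algebraMap B C' ((u ^ k : Bˣ) : B) * aeval (algebraMap B C' ((u⁻¹ : Bˣ) : B) * y) p := by
  unfold scal
  rw [map_mul, aeval_C, aeval_comp, map_mul, aeval_C, aeval_X]

theorem aeval_derivative_scal (u : Bˣ) (k : ℕ) (p : B[X]) (y : C') :
    aeval y (derivative (scal u k p)) =
      algebraMap B C' ((u ^ k : Bˣ) : B) * (algebraMap B C' ((u⁻¹ : Bˣ) : B) *
        aeval (algebraMap B C' ((u⁻¹ : Bˣ) : B) * y) (derivative p)) := by
  unfold scal
  rw [derivative_mul, derivative_C, zero_mul, zero_add, derivative_comp, derivative_mul,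
    derivative_C, zero_mul, zero_add, derivative_X, mul_one]
  simp only [map_mul, aeval_C, aeval_comp, aeval_X]

end scale

open Groth.Agent.Lib.Helper5.StdEtLift in
theorem exists_lift_of_fs {A B C : Type u} [CommRing A] [CommRing B] [CommRing C] [Algebra A B]
    [Algebra B C] (hFS : FS A B) [Algebra.IsStandardEtale B C] :
    ∃ P : StandardEtalePair A, Nonempty (B ⊗[A] P.Ring ≃ₐ[B] C) := by
  classical
  obtain ⟨Q⟩ := Algebra.IsStandardEtale.nonempty_standardEtalePresentation (R := B) (S := C)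
  obtain ⟨t, ht, hcoef⟩ := hFS.finset
    ((Finset.range (Q.f.natDegree + 1)).image Q.f.coeff ∪
      (Finset.range (Q.g.natDegree + 1)).image Q.g.coeff)
  let u : Bˣ := ht.unit
  have hu : (u : B) = algebraMap A B t := rfl
  have hpow : ∀ k : ℕ, ((u ^ k : Bˣ) : B) = algebraMap A B (t ^ k) := by
    intro k; rw [Units.val_pow_eq_pow_val, hu, map_pow]
  have hFcoef : ∀ i ≤ Q.f.natDegree, ∃ a : A, Q.f.coeff i * algebraMap A B t = algebraMap A B a := by
    intro i hi
    refine hcoef _ (Finset.mem_union_left _ (Finset.mem_image.2 ⟨i, ?_, rfl⟩))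
    exact Finset.mem_range.2 (by omega)
  have hGcoef : ∀ i ≤ Q.g.natDegree, ∃ a : A, Q.g.coeff i * algebraMap A B t = algebraMap A B a := by
    intro i hi
    refine hcoef _ (Finset.mem_union_right _ (Finset.mem_image.2 ⟨i, ?_, rfl⟩))
    exact Finset.mem_range.2 (by omega)
  have hF₁mon : (scal u Q.f.natDegree Q.f).Monic := monic_scal u Q.f Q.monic_f
  have hF₁lifts : scal u Q.f.natDegree Q.f ∈ lifts (algebraMap A B) := by
    rw [lifts_iff_coeff_lifts]
    intro i
    by_cases hi : i ≤ Q.f.natDegree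
    · rw [coeff_scal_of_le _ _ _ _ hi]
      rcases hi.lt_or_eq with hlt | heq
      · obtain ⟨a, ha⟩ := hFcoef i hi
        refine ⟨a * t ^ (Q.f.natDegree - i - 1), ?_⟩
        have h1 : Q.f.natDegree - i = (Q.f.natDegree - i - 1) + 1 := by omega
        rw [map_mul, ← ha, hpow, h1, pow_succ, map_mul]
        simp only [Nat.add_sub_cancel]
        ring
      · refine ⟨1, ?_⟩
        rw [heq, Q.monic_f.coeff_natDegree]
        simp
    · refine ⟨0, ?_⟩
      rw [coeff_scal, coeff_eq_zero_of_natDegree_lt (by omega)]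
      simp
  have hG₁lifts : scal u (Q.g.natDegree + 1) Q.g ∈ lifts (algebraMap A B) := by
    rw [lifts_iff_coeff_lifts]
    intro i
    by_cases hi : i ≤ Q.g.natDegree
    · rw [coeff_scal_of_le _ _ _ _ (by omega)]
      obtain ⟨a, ha⟩ := hGcoef i hi
      refine ⟨a * t ^ (Q.g.natDegree - i), ?_⟩
      have h1 : Q.g.natDegree + 1 - i = (Q.g.natDegree - i) + 1 := by omega
      rw [map_mul, ← ha, hpow, h1, pow_succ, map_mul]
      ring
    · refine ⟨0, ?_⟩
      rw [coeff_scal, coeff_eq_zero_of_natDegree_lt (by omega)]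
      simp
  obtain ⟨F, hFmap, -, hFmonic⟩ := lifts_and_natDegree_eq_and_monic hF₁lifts hF₁mon
  obtain ⟨G, hGmap⟩ := (mem_lifts _).1 hG₁lifts
  let P : StandardEtalePair A := ⟨F, hFmonic, G * derivative F, ⟨G, 0, 1, by ring⟩⟩
  have hPf : (P.map (algebraMap A B)).f = scal u Q.f.natDegree Q.f := hFmap
  have hPg : (P.map (algebraMap A B)).g =
      scal u (Q.g.natDegree + 1) Q.g * derivative (scal u Q.f.natDegree Q.f) := by
    change Polynomial.map (algebraMap A B) (G * derivative F) = _
    rw [Polynomial.map_mul, ← derivative_map, hFmap, hGmap]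
  have hunit : ∀ (S : Type u) [CommRing S] [Algebra B S] (k : ℕ),
      IsUnit (algebraMap B S ((u ^ k : Bˣ) : B)) := fun S _ _ k => (u ^ k).isUnit.map _
  have hunit' : ∀ (S : Type u) [CommRing S] [Algebra B S],
      IsUnit (algebraMap B S ((u⁻¹ : Bˣ) : B)) := fun S _ _ => (u⁻¹).isUnit.map _
  have hcancel : ∀ (S : Type u) [CommRing S] [Algebra B S] (x : S),
      algebraMap B S ((u⁻¹ : Bˣ) : B) * (algebraMap B S (u : B) * x) = x := by
    intro S _ _ x
    rw [← mul_assoc, ← map_mul, Units.inv_mul, map_one, one_mul]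
  have hcancel' : ∀ (S : Type u) [CommRing S] [Algebra B S] (x : S),
      algebraMap B S (u : B) * (algebraMap B S ((u⁻¹ : Bˣ) : B) * x) = x := by
    intro S _ _ x
    rw [← mul_assoc, ← map_mul, Units.mul_inv, map_one, one_mul]
  have h1 : (P.map (algebraMap A B)).HasMap (algebraMap B Q.P.Ring (u : B) * Q.P.X) := by
    refine ⟨?_, ?_⟩
    · rw [hPf, aeval_scal, hcancel, Q.P.hasMap_X.1, mul_zero]
    · rw [hPg, map_mul, aeval_scal, aeval_derivative_scal, hcancel]
      refine ((hunit _ _).mul Q.P.hasMap_X.2).mul ((hunit _ _).mul ((hunit' _).mul ?_))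
      exact Q.P.hasMap_X.isUnit_derivative_f
  have h2 : Q.P.HasMap (algebraMap B (P.map (algebraMap A B)).Ring ((u⁻¹ : Bˣ) : B) *
      (P.map (algebraMap A B)).X) := by
    have hX := (P.map (algebraMap A B)).hasMap_X
    refine ⟨?_, ?_⟩
    · have := hX.1
      rw [hPf, aeval_scal] at this
      exact (hunit _ _).mul_right_eq_zero.1 this
    · have := hX.2
      rw [hPg, map_mul, aeval_scal] at this
      exact isUnit_of_mul_isUnit_right (isUnit_of_mul_isUnit_left this)
  have e₂ : (P.map (algebraMap A B)).Ring ≃ₐ[B] Q.P.Ring := by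
    refine AlgEquiv.ofAlgHom ((P.map (algebraMap A B)).lift _ h1) (Q.P.lift _ h2)
      (Q.P.hom_ext ?_) ((P.map (algebraMap A B)).hom_ext ?_)
    · rw [AlgHom.comp_apply, StandardEtalePair.lift_X, map_mul, AlgHom.commutes,
        StandardEtalePair.lift_X, AlgHom.id_apply]
      exact hcancel Q.P.Ring _
    · rw [AlgHom.comp_apply, StandardEtalePair.lift_X, map_mul, AlgHom.commutes,
        StandardEtalePair.lift_X, AlgHom.id_apply]
      exact hcancel' (P.map (algebraMap A B)).Ring _
  exact ⟨P, ⟨((taut P).baseChange (T := B)).equivRing.trans (e₂.trans Q.equivRing.symm)⟩⟩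

end Groth.Agent.Helper2.FibEt
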