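import Mathlib
import Groth.Prelude.Def_MoreMor
import Groth.Agent.Lib.Helper2.FibEt.Alg
import Groth.Agent.Lib.Helper7.StdNbhd

/-!
# Étale neighbourhoods of a point in its fibre lift to the total space (helper2)
-/

set_option autoImplicit false
set_option backward.isDefEq.respectTransparency.types false
set_option synthInstance.maxHeartbeats 400000
set_option maxHeartbeats 4000000
set_option linter.style.haveILetI false
set_option linter.unusedSectionVars false
set_option linter.unusedVariables false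

universe u
open CategoryTheory CategoryTheory.Limits AlgebraicGeometry TopologicalSpace

namespace Groth.Agent.Helper2.FibEt

/-- sections of `Spec κ(s) ⟶ S` over an open containing `s` are evaluation at `s` -/
theorem appLE_fromSpecResidueField (S : Scheme.{u}) (s : S) (S₀ : S.Opens) (hs : s ∈ S₀)
    (h : ⊤ ≤ (S.fromSpecResidueField s) ⁻¹ᵁ S₀) :
    (S.fromSpecResidueField s).appLE S₀ ⊤ h ≫ (Scheme.ΓSpecIso (S.residueField s)).hom =
      S.evaluation S₀ s hs := by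
  unfold Scheme.fromSpecResidueField
  rw [Scheme.Hom.comp_appLE, Scheme.fromSpecStalk_app hs]
  simp only [Category.assoc]
  rw [Scheme.Hom.map_appLE_assoc]
  have h4 : (Spec.map (S.residue s)).appLE ⊤ ⊤ (le_top.trans (le_of_eq rfl)) =
      (Spec.map (S.residue s)).appTop := Scheme.Hom.appLE_eq_app _
  erw [h4]
  rw [Scheme.ΓSpecIso_naturality, Iso.inv_hom_id_assoc]
  rfl

theorem fs_fromSpecResidueField (S : Scheme.{u}) (s : S) (S₀ : S.Opens) (hS₀ : IsAffineOpen S₀)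
    (hs : s ∈ S₀) (h : ⊤ ≤ (S.fromSpecResidueField s) ⁻¹ᵁ S₀) :
    letI := ((S.fromSpecResidueField s).appLE S₀ ⊤ h).hom.toAlgebra
    FS Γ(S, S₀) Γ(Spec (S.residueField s), ⊤) := by
  letI := ((S.fromSpecResidueField s).appLE S₀ ⊤ h).hom.toAlgebra
  intro k
  have key := appLE_fromSpecResidueField S s S₀ hs h
  have key' : ∀ r : Γ(S, S₀), (Scheme.ΓSpecIso (S.residueField s)).hom.hom
      (algebraMap Γ(S, S₀) Γ(Spec (S.residueField s), ⊤) r) = (S.evaluation S₀ s hs).hom r := by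
    intro r
    have := congrArg (fun φ => φ.hom r) key
    exact this
  have hinj : Function.Injective (Scheme.ΓSpecIso (S.residueField s)).hom.hom :=
    (Scheme.ΓSpecIso (S.residueField s)).commRingCatIsoToRingEquiv.injective
  letI := S.presheaf.algebra_section_stalk ⟨s, hs⟩
  haveI := hS₀.isLocalization_stalk ⟨s, hs⟩
  obtain ⟨ξ, hξ⟩ := S.residue_surjective s ((Scheme.ΓSpecIso (S.residueField s)).hom.hom k)
  obtain ⟨⟨r, t⟩, hrt⟩ := IsLocalization.surj (hS₀.primeIdealOf ⟨s, hs⟩).asIdeal.primeCompl ξ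
  have htu : IsUnit (algebraMap Γ(S, S₀) (S.presheaf.stalk s) t) :=
    IsLocalization.map_units _ t
  refine ⟨r, t, ?_, ?_⟩
  · have h1 : IsUnit ((S.evaluation S₀ s hs).hom t) := htu.map (S.residue s).hom
    rw [← key'] at h1
    have := h1.map (Scheme.ΓSpecIso (S.residueField s)).inv.hom
    rwa [← CommRingCat.comp_apply, Iso.hom_inv_id, CommRingCat.id_apply] at this
  · apply hinj
    rw [map_mul, key', key', ← hξ]
    have := congrArg (S.residue s).hom hrt
    rw [map_mul] at this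
    exact this

/-- fraction-surjectivity is inherited by pushouts -/
theorem fs_of_isPushout {R A K B : CommRingCat.{u}} {a : R ⟶ A} {k : R ⟶ K} {b : A ⟶ B}
    {c : K ⟶ B} (H : IsPushout a k b c)
    (hk : letI := k.hom.toAlgebra; FS R K) : letI := b.hom.toAlgebra; FS A B := by
  letI := k.hom.toAlgebra
  letI := b.hom.toAlgebra
  intro x
  have hx : x ∈ Subring.closure (Set.range b ∪ Set.range c) := by
    rw [CommRingCat.closure_range_union_range_eq_top_of_isPushout H]; trivial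
  induction hx using Subring.closure_induction with
  | mem y hy =>
    rcases hy with ⟨a', rfl⟩ | ⟨k', rfl⟩
    · exact ⟨a', 1, by simp, by simp [RingHom.algebraMap_toAlgebra]⟩
    · obtain ⟨r, t, ht, hrt⟩ := hk k'
      have hw : ∀ r' : R, c.hom (k.hom r') = b.hom (a.hom r') := by
        intro r'
        have := congrArg (fun φ => φ.hom r') H.w
        exact this.symm
      refine ⟨a.hom r, a.hom t, ?_, ?_⟩
      · change IsUnit (b.hom (a.hom t))
        rw [← hw]
        exact ht.map c.hom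
      · change c.hom k' * b.hom (a.hom t) = b.hom (a.hom r)
        rw [← hw, ← hw, ← map_mul]
        exact congrArg c.hom hrt
  | zero => exact ⟨0, 1, by simp, by simp⟩
  | one => exact ⟨1, 1, by simp, by simp⟩
  | add y z _ _ hy hz => exact FS.add_mem hy hz
  | neg y _ hy =>
    obtain ⟨a', t, ht, e⟩ := hy
    exact ⟨-a', t, ht, by rw [map_neg, ← e]; ring⟩
  | mul y z _ _ hy hz =>
    obtain ⟨a₁, t₁, ht₁, e₁⟩ := hy
    obtain ⟨a₂, t₂, ht₂, e₂⟩ := hz
    refine ⟨a₁ * a₂, t₁ * t₂, by rw [map_mul]; exact ht₁.mul ht₂, ?_⟩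
    rw [map_mul, map_mul, ← e₁, ← e₂]; ring

open TensorProduct in
/-- a base-change isomorphism gives a pushout square of commutative rings -/
theorem isPushout_of_algEquiv {A B D C : Type u} [CommRing A] [CommRing B] [CommRing D]
    [CommRing C] [Algebra A B] [Algebra A D] [Algebra B C] (e : B ⊗[A] D ≃ₐ[B] C) :
    IsPushout (CommRingCat.ofHom (algebraMap A B)) (CommRingCat.ofHom (algebraMap A D))
      (CommRingCat.ofHom (algebraMap B C))
      (CommRingCat.ofHom ((e : B ⊗[A] D →+* C).comp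
        (Algebra.TensorProduct.includeRight (R := A) (A := B) (B := D)).toRingHom)) := by
  refine (CommRingCat.isPushout_tensorProduct A B D).of_iso (Iso.refl _) (Iso.refl _) (Iso.refl _)
    e.toRingEquiv.toCommRingCatIso (by simp) (by simp) ?_ ?_
  · ext b
    simp only [Iso.refl_hom, Category.id_comp]
    change e (b ⊗ₜ[A] 1) = algebraMap B C b
    rw [← e.commutes b]
    rfl
  · ext d
    rfl

open TensorProduct in
theorem main {X S V : Scheme.{u}} (f : X ⟶ S) (s : S) (g : V ⟶ f.fiber s) [Etale g] (v : V) :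
    ∃ (U : Scheme.{u}) (p : U ⟶ X) (u : U) (m : (p ≫ f).fiber s ⟶ V)
      (u' : ↑((p ≫ f).fiber s)),
      Etale p ∧ p u = f.fiberι s (g v) ∧ IsOpenImmersion m ∧
      m ≫ g = MoreMor.fiberMap p f s ∧ (p ≫ f).fiberι s u' = u ∧ m u' = v := by
  have H₀ : IsPullback (f.fiberι s) (f.fiberToSpecResidueField s) f (S.fromSpecResidueField s) :=
    IsPullback.of_hasPullback f (S.fromSpecResidueField s)
  have hfx : f (f.fiberι s (g v)) = s := by
    have h1 : f.fiberι s (g v) ∈ Set.range (f.fiberι s) := ⟨_, rfl⟩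
    rw [Scheme.Hom.range_fiberι] at h1
    exact h1
  obtain ⟨S₀, hS₀, hsS₀, -⟩ := exists_isAffineOpen_mem_and_subset (x := s) (U := ⊤) trivial
  obtain ⟨W, hW, hxW, hWS₀'⟩ := exists_isAffineOpen_mem_and_subset (x := f.fiberι s (g v))
    (U := f ⁻¹ᵁ S₀) (by rw [Scheme.Hom.mem_preimage, hfx]; exact hsS₀)
  have hWS₀ : W ≤ f ⁻¹ᵁ S₀ := hWS₀'
  have hUST : (⊤ : (Spec (S.residueField s)).Opens) ≤ (S.fromSpecResidueField s) ⁻¹ᵁ S₀ := by
    intro t _
    change (S.fromSpecResidueField s) t ∈ S₀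
    rw [Scheme.fromSpecResidueField_apply]
    exact hsS₀
  have hUY : (f.fiberι s) ⁻¹ᵁ W =
      (f.fiberι s) ⁻¹ᵁ W ⊓ (f.fiberToSpecResidueField s) ⁻¹ᵁ ⊤ := by simp
  have hZW : IsAffineOpen ((f.fiberι s) ⁻¹ᵁ W) := by
    haveI : IsAffine S₀ := hS₀
    haveI : IsAffine W := hW
    haveI : IsAffine (⊤ : (Spec (S.residueField s)).Opens) := isAffineOpen_top _
    exact .of_isIso (Scheme.Hom.isPullback_resLE H₀ hUST hWS₀ hUY).isoPullback.hom
  have hpo := (isIso_pushoutSection_iff H₀ hUST hWS₀ hUY).mp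
    (isIso_pushoutSection_of_isAffineOpen H₀ hUST hWS₀ hUY hS₀ (isAffineOpen_top _) hW)
  have hFS := fs_of_isPushout hpo (fs_fromSpecResidueField S s S₀ hS₀ hsS₀ hUST)
  obtain ⟨V₀, hV₀, hvV₀, e, hstd⟩ :=
    Groth.Agent.Helper7.StdNbhd.exists_isStandardEtale_appLE g v hZW
      (show g v ∈ (f.fiberι s) ⁻¹ᵁ W from hxW)
  letI algAB : Algebra Γ(X, W) Γ(f.fiber s, (f.fiberι s) ⁻¹ᵁ W) :=
    ((f.fiberι s).appLE W ((f.fiberι s) ⁻¹ᵁ W) le_rfl).hom.toAlgebra
  letI algBC : Algebra Γ(f.fiber s, (f.fiberι s) ⁻¹ᵁ W) Γ(V, V₀) :=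
    (g.appLE ((f.fiberι s) ⁻¹ᵁ W) V₀ e).hom.toAlgebra
  obtain ⟨P, ⟨eq⟩⟩ := exists_lift_of_fs (A := Γ(X, W)) (B := Γ(f.fiber s, (f.fiberι s) ⁻¹ᵁ W))
    (C := Γ(V, V₀)) hFS
  -- the four ring maps
  let φAD : Γ(X, W) ⟶ CommRingCat.of P.Ring := CommRingCat.ofHom (algebraMap Γ(X, W) P.Ring)
  let φDC : CommRingCat.of P.Ring ⟶ Γ(V, V₀) :=
    CommRingCat.ofHom ((eq : Γ(f.fiber s, (f.fiberι s) ⁻¹ᵁ W) ⊗[Γ(X, W)] P.Ring →+* Γ(V, V₀)).comp
      (Algebra.TensorProduct.includeRight (R := Γ(X, W))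
        (A := Γ(f.fiber s, (f.fiberι s) ⁻¹ᵁ W)) (B := P.Ring)).toRingHom)
  have Hβ2 : IsPullback (Spec.map (g.appLE ((f.fiberι s) ⁻¹ᵁ W) V₀ e)) (Spec.map φDC)
      (Spec.map ((f.fiberι s).appLE W ((f.fiberι s) ⁻¹ᵁ W) le_rfl)) (Spec.map φAD) :=
    isPullback_SpecMap_of_isPushout _ _ _ _ (isPushout_of_algEquiv eq)
  have Hβ1 : IsPullback (Spec.map ((f.fiberι s).appLE W ((f.fiberι s) ⁻¹ᵁ W) le_rfl))
      hZW.fromSpec hW.fromSpec (f.fiberι s) :=
    IsOpenImmersion.isPullback _ _ _ _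
      (IsAffineOpen.SpecMap_appLE_fromSpec (f.fiberι s) hW hZW le_rfl).symm
      (by rw [hW.opensRange_fromSpec, hZW.opensRange_fromSpec])
  have H₁ := (Hβ2.flip.paste_vert Hβ1).paste_vert H₀
  have key1 : Spec.map (g.appLE ((f.fiberι s) ⁻¹ᵁ W) V₀ e) ≫ hZW.fromSpec = hV₀.fromSpec ≫ g :=
    IsAffineOpen.SpecMap_appLE_fromSpec g hZW hV₀ e
  -- the étale neighbourhood
  let p : Spec (CommRingCat.of P.Ring) ⟶ X := Spec.map φAD ≫ hW.fromSpec
  have hp : Etale p := by
    haveI : Etale (Spec.map φAD) := by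
      rw [HasRingHomProperty.Spec_iff (P := @Etale)]
      exact RingHom.etale_algebraMap.mpr inferInstance
    infer_instance
  have H₁' : IsPullback (Spec.map φDC)
      ((Spec.map (g.appLE ((f.fiberι s) ⁻¹ᵁ W) V₀ e) ≫ hZW.fromSpec) ≫
        f.fiberToSpecResidueField s) (p ≫ f) (S.fromSpecResidueField s) := H₁
  let iso : Spec Γ(V, V₀) ≅ (p ≫ f).fiber s := H₁'.isoPullback
  have hfst : iso.hom ≫ (p ≫ f).fiberι s = Spec.map φDC := H₁'.isoPullback_hom_fst
  have hsnd : iso.hom ≫ (p ≫ f).fiberToSpecResidueField s =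
      (Spec.map (g.appLE ((f.fiberι s) ⁻¹ᵁ W) V₀ e) ≫ hZW.fromSpec) ≫
        f.fiberToSpecResidueField s := H₁'.isoPullback_hom_snd
  have hw : Spec.map φDC ≫ p = (hV₀.fromSpec ≫ g) ≫ f.fiberι s := by
    rw [← key1]
    exact (Hβ2.flip.paste_vert Hβ1).w
  let m : (p ≫ f).fiber s ⟶ V := iso.inv ≫ hV₀.fromSpec
  have hfm1 : MoreMor.fiberMap p f s ≫ f.fiberι s = (p ≫ f).fiberι s ≫ p :=
    pullback.lift_fst _ _ _
  have hfm2 : MoreMor.fiberMap p f s ≫ f.fiberToSpecResidueField s =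
      (p ≫ f).fiberToSpecResidueField s := pullback.lift_snd _ _ _
  have hm : m ≫ g = MoreMor.fiberMap p f s := by
    rw [← cancel_epi iso.hom]
    apply pullback.hom_ext
    · have lhs : (iso.hom ≫ m ≫ g) ≫ f.fiberι s = (hV₀.fromSpec ≫ g) ≫ f.fiberι s := by
        simp only [m, Category.assoc, Iso.hom_inv_id_assoc]
      have rhs : (iso.hom ≫ MoreMor.fiberMap p f s) ≫ f.fiberι s =
          (hV₀.fromSpec ≫ g) ≫ f.fiberι s := by
        rw [Category.assoc, hfm1, reassoc_of% hfst, hw]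
      exact lhs.trans rhs.symm
    · have lhs : (iso.hom ≫ m ≫ g) ≫ f.fiberToSpecResidueField s =
          (hV₀.fromSpec ≫ g) ≫ f.fiberToSpecResidueField s := by
        simp only [m, Category.assoc, Iso.hom_inv_id_assoc]
      have rhs : (iso.hom ≫ MoreMor.fiberMap p f s) ≫ f.fiberToSpecResidueField s =
          (hV₀.fromSpec ≫ g) ≫ f.fiberToSpecResidueField s := by
        rw [Category.assoc, hfm2, hsnd, key1]
      exact lhs.trans rhs.symm
  obtain ⟨c₀, hc₀⟩ : ∃ c₀, hV₀.fromSpec c₀ = v := by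
    have : v ∈ Set.range hV₀.fromSpec := by rw [hV₀.range_fromSpec]; exact hvV₀
    exact this
  have hmu : m (iso.hom c₀) = v := by
    change (iso.inv ≫ hV₀.fromSpec) (iso.hom c₀) = v
    rw [← Scheme.Hom.comp_apply, Iso.hom_inv_id_assoc]
    exact hc₀
  refine ⟨Spec (CommRingCat.of P.Ring), p, (p ≫ f).fiberι s (iso.hom c₀), m, iso.hom c₀, hp, ?_,
    inferInstance, hm, rfl, hmu⟩
  have h3 : (p ≫ f).fiberι s ≫ p = (m ≫ g) ≫ f.fiberι s := by
    rw [hm, hfm1]
  rw [← Scheme.Hom.comp_apply, h3, Scheme.Hom.comp_apply, Scheme.Hom.comp_apply, hmu]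

end Groth.Agent.Helper2.FibEt
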